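import Cfsg.Agent.Lib.H17.M22M.MonoTw

set_option autoImplicit false
set_option maxRecDepth 100000

/-! # The relations among the twist symbols (generated) -/

namespace Cfsg.Agent.Lib.H17.M22M.Cert

open Cfsg.Agent.Lib.H17.MonoCert

/-- the relation vectors -/
def relV : List (List ℤ) := [[-4, 0, 1, 2, 1, 2], [0, 3, -1, -3, 3, -2], [8, -3, 2, 5, -2, 4], [0, 2, 0, 3, 1, 2], [0, 0, -1, 0, -9, 2], [-10, -1, 1, -3, 8, -4], [4, -6, -2, 16, 5, 4], [2, 6, 1, -16, -5, -4], [1, 10, -13, 9, 7, -9], [5, -10, 13, -10, -7, 9], [-1, 1, 8, -6, 3, -5], [3, 1, 8, -6, 2, -5], [0, 8, -5, 16, -11, 6], [9, -8, 5, -16, 11, -7]]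

theorem rel_alg_add {M : Type*} [AddCommGroup M] (a0 a1 a2 a3 a4 a5 : M)
    (h0 : (-4 : ℤ) • a0 + ((0 : ℤ) • a1 + ((1 : ℤ) • a2 + ((2 : ℤ) • a3 + ((1 : ℤ) • a4 + ((2 : ℤ) • a5 + 0))))) = 0)
    (h1 : (0 : ℤ) • a0 + ((3 : ℤ) • a1 + ((-1 : ℤ) • a2 + ((-3 : ℤ) • a3 + ((3 : ℤ) • a4 + ((-2 : ℤ) • a5 + 0))))) = 0)
    (h2 : (8 : ℤ) • a0 + ((-3 : ℤ) • a1 + ((2 : ℤ) • a2 + ((5 : ℤ) • a3 + ((-2 : ℤ) • a4 + ((4 : ℤ) • a5 + 0))))) = 0)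
    (h3 : (0 : ℤ) • a0 + ((2 : ℤ) • a1 + ((0 : ℤ) • a2 + ((3 : ℤ) • a3 + ((1 : ℤ) • a4 + ((2 : ℤ) • a5 + 0))))) = 0)
    (h4 : (0 : ℤ) • a0 + ((0 : ℤ) • a1 + ((-1 : ℤ) • a2 + ((0 : ℤ) • a3 + ((-9 : ℤ) • a4 + ((2 : ℤ) • a5 + 0))))) = 0)
    (h5 : (-10 : ℤ) • a0 + ((-1 : ℤ) • a1 + ((1 : ℤ) • a2 + ((-3 : ℤ) • a3 + ((8 : ℤ) • a4 + ((-4 : ℤ) • a5 + 0))))) = 0)
    (h6 : (4 : ℤ) • a0 + ((-6 : ℤ) • a1 + ((-2 : ℤ) • a2 + ((16 : ℤ) • a3 + ((5 : ℤ) • a4 + ((4 : ℤ) • a5 + 0))))) = 0)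
    (h7 : (2 : ℤ) • a0 + ((6 : ℤ) • a1 + ((1 : ℤ) • a2 + ((-16 : ℤ) • a3 + ((-5 : ℤ) • a4 + ((-4 : ℤ) • a5 + 0))))) = 0)
    (h8 : (1 : ℤ) • a0 + ((10 : ℤ) • a1 + ((-13 : ℤ) • a2 + ((9 : ℤ) • a3 + ((7 : ℤ) • a4 + ((-9 : ℤ) • a5 + 0))))) = 0)
    (h9 : (5 : ℤ) • a0 + ((-10 : ℤ) • a1 + ((13 : ℤ) • a2 + ((-10 : ℤ) • a3 + ((-7 : ℤ) • a4 + ((9 : ℤ) • a5 + 0))))) = 0)
    (h10 : (-1 : ℤ) • a0 + ((1 : ℤ) • a1 + ((8 : ℤ) • a2 + ((-6 : ℤ) • a3 + ((3 : ℤ) • a4 + ((-5 : ℤ) • a5 + 0))))) = 0)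
    (h11 : (3 : ℤ) • a0 + ((1 : ℤ) • a1 + ((8 : ℤ) • a2 + ((-6 : ℤ) • a3 + ((2 : ℤ) • a4 + ((-5 : ℤ) • a5 + 0))))) = 0)
    (h12 : (0 : ℤ) • a0 + ((8 : ℤ) • a1 + ((-5 : ℤ) • a2 + ((16 : ℤ) • a3 + ((-11 : ℤ) • a4 + ((6 : ℤ) • a5 + 0))))) = 0)
    (h13 : (9 : ℤ) • a0 + ((-8 : ℤ) • a1 + ((5 : ℤ) • a2 + ((-16 : ℤ) • a3 + ((11 : ℤ) • a4 + ((-7 : ℤ) • a5 + 0))))) = 0)
    : (12 : ℤ) • a0 = 0 ∧ a1 = (10 : ℤ) • a0 ∧ a2 = (6 : ℤ) • a0 ∧ a3 = (6 : ℤ) • a0 ∧ a4 = (4 : ℤ) • a0 ∧ a5 = (9 : ℤ) • a0 := by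
  simp only [zero_smul, add_zero, zero_add] at h0 h1 h2 h3 h4 h5 h6 h7 h8 h9 h10 h11 h12 h13
  have g0 : (12 : ℤ) • a0 = 0 := by
    have e : (12 : ℤ) • a0 = (-1 : ℤ) • ((-4 : ℤ) • a0 + ((1 : ℤ) • a2 + ((2 : ℤ) • a3 + ((1 : ℤ) • a4 + ((2 : ℤ) • a5))))) + (1 : ℤ) • ((3 : ℤ) • a1 + ((-1 : ℤ) • a2 + ((-3 : ℤ) • a3 + ((3 : ℤ) • a4 + ((-2 : ℤ) • a5))))) + (1 : ℤ) • ((8 : ℤ) • a0 + ((-3 : ℤ) • a1 + ((2 : ℤ) • a2 + ((5 : ℤ) • a3 + ((-2 : ℤ) • a4 + ((4 : ℤ) • a5)))))) := by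
      abel
    rw [e, h0, h1, h2]
    simp only [smul_zero, add_zero]
  refine ⟨g0, ?_, ?_, ?_, ?_, ?_⟩
  · have e : a1 - (10 : ℤ) • a0 + (0 : ℤ) • ((12 : ℤ) • a0) = (1 : ℤ) • ((2 : ℤ) • a1 + ((3 : ℤ) • a3 + ((1 : ℤ) • a4 + ((2 : ℤ) • a5)))) + (1 : ℤ) • ((-1 : ℤ) • a2 + ((-9 : ℤ) • a4 + ((2 : ℤ) • a5))) + (1 : ℤ) • ((-10 : ℤ) • a0 + ((-1 : ℤ) • a1 + ((1 : ℤ) • a2 + ((-3 : ℤ) • a3 + ((8 : ℤ) • a4 + ((-4 : ℤ) • a5)))))) := by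
      abel
    rw [g0, h3, h4, h5] at e
    simp only [smul_zero, add_zero] at e
    exact sub_eq_zero.mp e
  · have e : a2 - (6 : ℤ) • a0 + (0 : ℤ) • ((12 : ℤ) • a0) = (-1 : ℤ) • ((4 : ℤ) • a0 + ((-6 : ℤ) • a1 + ((-2 : ℤ) • a2 + ((16 : ℤ) • a3 + ((5 : ℤ) • a4 + ((4 : ℤ) • a5)))))) + (-1 : ℤ) • ((2 : ℤ) • a0 + ((6 : ℤ) • a1 + ((1 : ℤ) • a2 + ((-16 : ℤ) • a3 + ((-5 : ℤ) • a4 + ((-4 : ℤ) • a5)))))) := by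
      abel
    rw [g0, h6, h7] at e
    simp only [smul_zero, add_zero] at e
    exact sub_eq_zero.mp e
  · have e : a3 - (6 : ℤ) • a0 + (0 : ℤ) • ((12 : ℤ) • a0) = (-1 : ℤ) • ((1 : ℤ) • a0 + ((10 : ℤ) • a1 + ((-13 : ℤ) • a2 + ((9 : ℤ) • a3 + ((7 : ℤ) • a4 + ((-9 : ℤ) • a5)))))) + (-1 : ℤ) • ((5 : ℤ) • a0 + ((-10 : ℤ) • a1 + ((13 : ℤ) • a2 + ((-10 : ℤ) • a3 + ((-7 : ℤ) • a4 + ((9 : ℤ) • a5)))))) := by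
      abel
    rw [g0, h8, h9] at e
    simp only [smul_zero, add_zero] at e
    exact sub_eq_zero.mp e
  · have e : a4 - (4 : ℤ) • a0 + (0 : ℤ) • ((12 : ℤ) • a0) = (1 : ℤ) • ((-1 : ℤ) • a0 + ((1 : ℤ) • a1 + ((8 : ℤ) • a2 + ((-6 : ℤ) • a3 + ((3 : ℤ) • a4 + ((-5 : ℤ) • a5)))))) + (-1 : ℤ) • ((3 : ℤ) • a0 + ((1 : ℤ) • a1 + ((8 : ℤ) • a2 + ((-6 : ℤ) • a3 + ((2 : ℤ) • a4 + ((-5 : ℤ) • a5)))))) := by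
      abel
    rw [g0, h10, h11] at e
    simp only [smul_zero, add_zero] at e
    exact sub_eq_zero.mp e
  · have e : a5 - (9 : ℤ) • a0 + (0 : ℤ) • ((12 : ℤ) • a0) = (-1 : ℤ) • ((8 : ℤ) • a1 + ((-5 : ℤ) • a2 + ((16 : ℤ) • a3 + ((-11 : ℤ) • a4 + ((6 : ℤ) • a5))))) + (-1 : ℤ) • ((9 : ℤ) • a0 + ((-8 : ℤ) • a1 + ((5 : ℤ) • a2 + ((-16 : ℤ) • a3 + ((11 : ℤ) • a4 + ((-7 : ℤ) • a5)))))) := by
      abel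
    rw [g0, h12, h13] at e
    simp only [smul_zero, add_zero] at e
    exact sub_eq_zero.mp e

theorem rel_alg {A : Type*} [CommGroup A] (z0 z1 z2 z3 z4 z5 : A)
    (h0 : ltw [z0, z1, z2, z3, z4, z5] [-4, 0, 1, 2, 1, 2] = 1)
    (h1 : ltw [z0, z1, z2, z3, z4, z5] [0, 3, -1, -3, 3, -2] = 1)
    (h2 : ltw [z0, z1, z2, z3, z4, z5] [8, -3, 2, 5, -2, 4] = 1)
    (h3 : ltw [z0, z1, z2, z3, z4, z5] [0, 2, 0, 3, 1, 2] = 1)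
    (h4 : ltw [z0, z1, z2, z3, z4, z5] [0, 0, -1, 0, -9, 2] = 1)
    (h5 : ltw [z0, z1, z2, z3, z4, z5] [-10, -1, 1, -3, 8, -4] = 1)
    (h6 : ltw [z0, z1, z2, z3, z4, z5] [4, -6, -2, 16, 5, 4] = 1)
    (h7 : ltw [z0, z1, z2, z3, z4, z5] [2, 6, 1, -16, -5, -4] = 1)
    (h8 : ltw [z0, z1, z2, z3, z4, z5] [1, 10, -13, 9, 7, -9] = 1)
    (h9 : ltw [z0, z1, z2, z3, z4, z5] [5, -10, 13, -10, -7, 9] = 1)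
    (h10 : ltw [z0, z1, z2, z3, z4, z5] [-1, 1, 8, -6, 3, -5] = 1)
    (h11 : ltw [z0, z1, z2, z3, z4, z5] [3, 1, 8, -6, 2, -5] = 1)
    (h12 : ltw [z0, z1, z2, z3, z4, z5] [0, 8, -5, 16, -11, 6] = 1)
    (h13 : ltw [z0, z1, z2, z3, z4, z5] [9, -8, 5, -16, 11, -7] = 1)
    : z0 ^ (12 : ℤ) = 1 ∧ z1 = z0 ^ (10 : ℤ) ∧ z2 = z0 ^ (6 : ℤ) ∧ z3 = z0 ^ (6 : ℤ) ∧ z4 = z0 ^ (4 : ℤ) ∧ z5 = z0 ^ (9 : ℤ) := by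
  have key := rel_alg_add (M := Additive A) (Additive.ofMul z0) (Additive.ofMul z1) (Additive.ofMul z2) (Additive.ofMul z3) (Additive.ofMul z4) (Additive.ofMul z5)
    (by
      have h : z0 ^ (-4 : ℤ) * (z1 ^ (0 : ℤ) * (z2 ^ (1 : ℤ) * (z3 ^ (2 : ℤ) * (z4 ^ (1 : ℤ) * (z5 ^ (2 : ℤ) * 1))))) = 1 := h0
      have := congrArg Additive.ofMul h
      simpa only [ofMul_mul, ofMul_zpow, ofMul_one] using this)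
    (by
      have h : z0 ^ (0 : ℤ) * (z1 ^ (3 : ℤ) * (z2 ^ (-1 : ℤ) * (z3 ^ (-3 : ℤ) * (z4 ^ (3 : ℤ) * (z5 ^ (-2 : ℤ) * 1))))) = 1 := h1
      have := congrArg Additive.ofMul h
      simpa only [ofMul_mul, ofMul_zpow, ofMul_one] using this)
    (by
      have h : z0 ^ (8 : ℤ) * (z1 ^ (-3 : ℤ) * (z2 ^ (2 : ℤ) * (z3 ^ (5 : ℤ) * (z4 ^ (-2 : ℤ) * (z5 ^ (4 : ℤ) * 1))))) = 1 := h2
      have := congrArg Additive.ofMul h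
      simpa only [ofMul_mul, ofMul_zpow, ofMul_one] using this)
    (by
      have h : z0 ^ (0 : ℤ) * (z1 ^ (2 : ℤ) * (z2 ^ (0 : ℤ) * (z3 ^ (3 : ℤ) * (z4 ^ (1 : ℤ) * (z5 ^ (2 : ℤ) * 1))))) = 1 := h3
      have := congrArg Additive.ofMul h
      simpa only [ofMul_mul, ofMul_zpow, ofMul_one] using this)
    (by
      have h : z0 ^ (0 : ℤ) * (z1 ^ (0 : ℤ) * (z2 ^ (-1 : ℤ) * (z3 ^ (0 : ℤ) * (z4 ^ (-9 : ℤ) * (z5 ^ (2 : ℤ) * 1))))) = 1 := h4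
      have := congrArg Additive.ofMul h
      simpa only [ofMul_mul, ofMul_zpow, ofMul_one] using this)
    (by
      have h : z0 ^ (-10 : ℤ) * (z1 ^ (-1 : ℤ) * (z2 ^ (1 : ℤ) * (z3 ^ (-3 : ℤ) * (z4 ^ (8 : ℤ) * (z5 ^ (-4 : ℤ) * 1))))) = 1 := h5
      have := congrArg Additive.ofMul h
      simpa only [ofMul_mul, ofMul_zpow, ofMul_one] using this)
    (by
      have h : z0 ^ (4 : ℤ) * (z1 ^ (-6 : ℤ) * (z2 ^ (-2 : ℤ) * (z3 ^ (16 : ℤ) * (z4 ^ (5 : ℤ) * (z5 ^ (4 : ℤ) * 1))))) = 1 := h6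
      have := congrArg Additive.ofMul h
      simpa only [ofMul_mul, ofMul_zpow, ofMul_one] using this)
    (by
      have h : z0 ^ (2 : ℤ) * (z1 ^ (6 : ℤ) * (z2 ^ (1 : ℤ) * (z3 ^ (-16 : ℤ) * (z4 ^ (-5 : ℤ) * (z5 ^ (-4 : ℤ) * 1))))) = 1 := h7
      have := congrArg Additive.ofMul h
      simpa only [ofMul_mul, ofMul_zpow, ofMul_one] using this)
    (by
      have h : z0 ^ (1 : ℤ) * (z1 ^ (10 : ℤ) * (z2 ^ (-13 : ℤ) * (z3 ^ (9 : ℤ) * (z4 ^ (7 : ℤ) * (z5 ^ (-9 : ℤ) * 1))))) = 1 := h8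
      have := congrArg Additive.ofMul h
      simpa only [ofMul_mul, ofMul_zpow, ofMul_one] using this)
    (by
      have h : z0 ^ (5 : ℤ) * (z1 ^ (-10 : ℤ) * (z2 ^ (13 : ℤ) * (z3 ^ (-10 : ℤ) * (z4 ^ (-7 : ℤ) * (z5 ^ (9 : ℤ) * 1))))) = 1 := h9
      have := congrArg Additive.ofMul h
      simpa only [ofMul_mul, ofMul_zpow, ofMul_one] using this)
    (by
      have h : z0 ^ (-1 : ℤ) * (z1 ^ (1 : ℤ) * (z2 ^ (8 : ℤ) * (z3 ^ (-6 : ℤ) * (z4 ^ (3 : ℤ) * (z5 ^ (-5 : ℤ) * 1))))) = 1 := h10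
      have := congrArg Additive.ofMul h
      simpa only [ofMul_mul, ofMul_zpow, ofMul_one] using this)
    (by
      have h : z0 ^ (3 : ℤ) * (z1 ^ (1 : ℤ) * (z2 ^ (8 : ℤ) * (z3 ^ (-6 : ℤ) * (z4 ^ (2 : ℤ) * (z5 ^ (-5 : ℤ) * 1))))) = 1 := h11
      have := congrArg Additive.ofMul h
      simpa only [ofMul_mul, ofMul_zpow, ofMul_one] using this)
    (by
      have h : z0 ^ (0 : ℤ) * (z1 ^ (8 : ℤ) * (z2 ^ (-5 : ℤ) * (z3 ^ (16 : ℤ) * (z4 ^ (-11 : ℤ) * (z5 ^ (6 : ℤ) * 1))))) = 1 := h12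
      have := congrArg Additive.ofMul h
      simpa only [ofMul_mul, ofMul_zpow, ofMul_one] using this)
    (by
      have h : z0 ^ (9 : ℤ) * (z1 ^ (-8 : ℤ) * (z2 ^ (5 : ℤ) * (z3 ^ (-16 : ℤ) * (z4 ^ (11 : ℤ) * (z5 ^ (-7 : ℤ) * 1))))) = 1 := h13
      have := congrArg Additive.ofMul h
      simpa only [ofMul_mul, ofMul_zpow, ofMul_one] using this)
  obtain ⟨k0, k1, k2, k3, k4, k5⟩ := key
  refine ⟨?_, ?_, ?_, ?_, ?_, ?_⟩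
  · apply Additive.ofMul.injective
    rw [ofMul_zpow, ofMul_one]; exact k0
  · apply Additive.ofMul.injective
    rw [ofMul_zpow]; exact k1
  · apply Additive.ofMul.injective
    rw [ofMul_zpow]; exact k2
  · apply Additive.ofMul.injective
    rw [ofMul_zpow]; exact k3
  · apply Additive.ofMul.injective
    rw [ofMul_zpow]; exact k4
  · apply Additive.ofMul.injective
    rw [ofMul_zpow]; exact k5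

end Cfsg.Agent.Lib.H17.M22M.Cert
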