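import Cfsg.Agent.Lib.H17.M22M.Cert.StepsA
import Cfsg.Agent.Lib.H17.M22M.Cert.StepsB
import Cfsg.Agent.Lib.H17.M22M.Cert.StepsC
import Cfsg.Agent.Lib.H17.M22M.Cert.StepsD
import Cfsg.Agent.Lib.H17.M22M.Cert.StepsE
import Cfsg.Agent.Lib.H17.M22M.Cert.Rows

set_option autoImplicit false
set_option maxRecDepth 100000

/-! # Running the monomial certificate (generated) -/

namespace Cfsg.Agent.Lib.H17.M22M.Cert

open Cfsg.Agent.Lib.H17.CosetCert (BT WT)
open Cfsg.Agent.Lib.H17.MonoCert

variable {G Q A : Type*} [Group G] [MulAction G Q] [Group A] [MulAction A Q]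
  [SMulCommClass G A Q] (tw : List ℤ → A) (γ : ℕ → G)

theorem run (hfree : ∀ (α β : A) (q : Q), α • q = β • q → α = β)
    (htw : TwOK ladd (List.replicate 6 0) leq tw) (q0 : Q) (hw : WordsOK Ev tw γ q0 words 20) :
    Inv F Ev tw γ q0 words 48384 8064 66 := by
  have h0 := inv_zero F Ev tw γ q0 words 20 hw
  have h1 := checkSteps_sound ladd (List.replicate 6 0) leq F Ev 6 65536 tw γ hfree htw q0 words 20 hw steps0 0 1 20 1500 705 20 h0 chk0
  have h2 := checkSteps_sound ladd (List.replicate 6 0) leq F Ev 6 65536 tw γ hfree htw q0 words 20 hw steps1 1500 705 20 3000 1417 20 h1 chk1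
  have h3 := checkSteps_sound ladd (List.replicate 6 0) leq F Ev 6 65536 tw γ hfree htw q0 words 20 hw steps2 3000 1417 20 4500 2107 20 h2 chk2
  have h4 := checkSteps_sound ladd (List.replicate 6 0) leq F Ev 6 65536 tw γ hfree htw q0 words 20 hw steps3 4500 2107 20 6000 2797 20 h3 chk3
  have h5 := checkSteps_sound ladd (List.replicate 6 0) leq F Ev 6 65536 tw γ hfree htw q0 words 20 hw steps4 6000 2797 20 7500 3502 20 h4 chk4
  have h6 := checkSteps_sound ladd (List.replicate 6 0) leq F Ev 6 65536 tw γ hfree htw q0 words 20 hw steps5 7500 3502 20 9000 4211 20 h5 chk5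
  have h7 := checkSteps_sound ladd (List.replicate 6 0) leq F Ev 6 65536 tw γ hfree htw q0 words 20 hw steps6 9000 4211 20 10500 4932 20 h6 chk6
  have h8 := checkSteps_sound ladd (List.replicate 6 0) leq F Ev 6 65536 tw γ hfree htw q0 words 20 hw steps7 10500 4932 20 12000 5662 20 h7 chk7
  have h9 := checkSteps_sound ladd (List.replicate 6 0) leq F Ev 6 65536 tw γ hfree htw q0 words 20 hw steps8 12000 5662 20 13500 6388 20 h8 chk8
  have h10 := checkSteps_sound ladd (List.replicate 6 0) leq F Ev 6 65536 tw γ hfree htw q0 words 20 hw steps9 13500 6388 20 15000 7115 20 h9 chk9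
  have h11 := checkSteps_sound ladd (List.replicate 6 0) leq F Ev 6 65536 tw γ hfree htw q0 words 20 hw steps10 15000 7115 20 16500 7852 20 h10 chk10
  have h12 := checkSteps_sound ladd (List.replicate 6 0) leq F Ev 6 65536 tw γ hfree htw q0 words 20 hw steps11 16500 7852 20 17999 8064 21 h11 chk11
  have h13 := checkSteps_sound ladd (List.replicate 6 0) leq F Ev 6 65536 tw γ hfree htw q0 words 20 hw steps12 17999 8064 21 19498 8064 22 h12 chk12
  have h14 := checkSteps_sound ladd (List.replicate 6 0) leq F Ev 6 65536 tw γ hfree htw q0 words 20 hw steps13 19498 8064 22 20986 8064 34 h13 chk13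
  have h15 := checkSteps_sound ladd (List.replicate 6 0) leq F Ev 6 65536 tw γ hfree htw q0 words 20 hw steps14 20986 8064 34 22469 8064 51 h14 chk14
  have h16 := checkSteps_sound ladd (List.replicate 6 0) leq F Ev 6 65536 tw γ hfree htw q0 words 20 hw steps15 22469 8064 51 23968 8064 52 h15 chk15
  have h17 := checkSteps_sound ladd (List.replicate 6 0) leq F Ev 6 65536 tw γ hfree htw q0 words 20 hw steps16 23968 8064 52 25468 8064 52 h16 chk16
  have h18 := checkSteps_sound ladd (List.replicate 6 0) leq F Ev 6 65536 tw γ hfree htw q0 words 20 hw steps17 25468 8064 52 26968 8064 52 h17 chk17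
  have h19 := checkSteps_sound ladd (List.replicate 6 0) leq F Ev 6 65536 tw γ hfree htw q0 words 20 hw steps18 26968 8064 52 28468 8064 52 h18 chk18
  have h20 := checkSteps_sound ladd (List.replicate 6 0) leq F Ev 6 65536 tw γ hfree htw q0 words 20 hw steps19 28468 8064 52 29968 8064 52 h19 chk19
  have h21 := checkSteps_sound ladd (List.replicate 6 0) leq F Ev 6 65536 tw γ hfree htw q0 words 20 hw steps20 29968 8064 52 31468 8064 52 h20 chk20
  have h22 := checkSteps_sound ladd (List.replicate 6 0) leq F Ev 6 65536 tw γ hfree htw q0 words 20 hw steps21 31468 8064 52 32968 8064 52 h21 chk21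
  have h23 := checkSteps_sound ladd (List.replicate 6 0) leq F Ev 6 65536 tw γ hfree htw q0 words 20 hw steps22 32968 8064 52 34468 8064 52 h22 chk22
  have h24 := checkSteps_sound ladd (List.replicate 6 0) leq F Ev 6 65536 tw γ hfree htw q0 words 20 hw steps23 34468 8064 52 35968 8064 52 h23 chk23
  have h25 := checkSteps_sound ladd (List.replicate 6 0) leq F Ev 6 65536 tw γ hfree htw q0 words 20 hw steps24 35968 8064 52 37468 8064 52 h24 chk24
  have h26 := checkSteps_sound ladd (List.replicate 6 0) leq F Ev 6 65536 tw γ hfree htw q0 words 20 hw steps25 37468 8064 52 38968 8064 52 h25 chk25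
  have h27 := checkSteps_sound ladd (List.replicate 6 0) leq F Ev 6 65536 tw γ hfree htw q0 words 20 hw steps26 38968 8064 52 40468 8064 52 h26 chk26
  have h28 := checkSteps_sound ladd (List.replicate 6 0) leq F Ev 6 65536 tw γ hfree htw q0 words 20 hw steps27 40468 8064 52 41968 8064 52 h27 chk27
  have h29 := checkSteps_sound ladd (List.replicate 6 0) leq F Ev 6 65536 tw γ hfree htw q0 words 20 hw steps28 41968 8064 52 43468 8064 52 h28 chk28
  have h30 := checkSteps_sound ladd (List.replicate 6 0) leq F Ev 6 65536 tw γ hfree htw q0 words 20 hw steps29 43468 8064 52 44968 8064 52 h29 chk29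
  have h31 := checkSteps_sound ladd (List.replicate 6 0) leq F Ev 6 65536 tw γ hfree htw q0 words 20 hw steps30 44968 8064 52 46468 8064 52 h30 chk30
  have h32 := checkSteps_sound ladd (List.replicate 6 0) leq F Ev 6 65536 tw γ hfree htw q0 words 20 hw steps31 46468 8064 52 47968 8064 52 h31 chk31
  have h33 := checkSteps_sound ladd (List.replicate 6 0) leq F Ev 6 65536 tw γ hfree htw q0 words 20 hw steps32 47968 8064 52 48384 8064 66 h32 chk32
  exact h33

end Cfsg.Agent.Lib.H17.M22M.Cert
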